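import Cfsg.Agent.Golay.M24
import Cfsg.Prelude.Def_Spor_Mathieu

/-! The Mathieu groups `Spor.M23, M22, M12, M11` and `M21` (3-point stabiliser): membership tests on codes
(`in23` ...; `codes23` ...), orders `card_M23` ..., multiple transitivity (`trans23`, `trans22`, `trans21`, `trans12`,
`trans12'` (complementary dodecad), `trans11`, `trans11'`), simplicity `simple_M24` ..., generation by explicit codes
(`closure_g23` ...), isomorphisms of arbitrary point / dodecad stabilisers with the standard ones (`equiv23` ...). -/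

set_option autoImplicit false

namespace Cfsg.Agent.Golay

open Cfsg.Agent.Comp MulAction Spor
open scoped Pointwise

local notation "PG" => Equiv.Perm GolayPt

/-- the three-point stabiliser. -/
def M21 : Subgroup PG := M22 ⊓ stabilizer PG (some 1 : GolayPt)

/-- mask of `squareDodecad`. -/
abbrev cD : ℕ := 340831

theorem squareDodecad_eq : squareDodecad = EG.ofMask cD := by
  rw [squareDodecad, qrWord_eq, EG.support_word]; rfl

theorem squareDodecad_mem : squareDodecad ∈ dodecads := squareDodecad_eq ▸ dodecad0_mem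

theorem card_squareDodecad : squareDodecad.card = 12 := squareDodecad_mem.2

theorem mem_stab_pt {c i : ℕ} {g : PG} (hc : R24 c g) (hi : i < 24) (h : Nat.beq (get24 c i) i = true) :
    g ∈ stabilizer PG (EG.dec i) := by
  rw [mem_stabilizer_iff, hc.smul_dec hi]; exact congrArg _ (nbeq.1 h)

theorem mem_stab_mask {c s : ℕ} {g : PG} (hc : R24 c g) (h : Nat.beq (img24 c s) s = true) :
    g ∈ stabilizer PG (EG.ofMask s) := by
  rw [mem_stabilizer_iff, hc.smul_ofMask]; exact congrArg _ (nbeq.1 h)

theorem CodesIn_stab_pt {L : List ℕ} {K : Subgroup PG} (hK : CodesIn R24 L K) {i : ℕ} (hi : i < 24)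
    (h : allL L (fun c => Nat.beq (get24 c i) i) = true) : CodesIn R24 L (K ⊓ stabilizer PG (EG.dec i)) :=
  fun c hc => let ⟨g, hg, hr⟩ := hK c hc; ⟨g, ⟨hg, mem_stab_pt hr hi (allL_iff.1 h c hc)⟩, hr⟩

theorem CodesIn_stab_mask {L : List ℕ} {K : Subgroup PG} (hK : CodesIn R24 L K) {s : ℕ}
    (h : allL L (fun c => Nat.beq (img24 c s) s) = true) :
    CodesIn R24 L (K ⊓ stabilizer PG (EG.ofMask s)) :=
  fun c hc => let ⟨g, hg, hr⟩ := hK c hc; ⟨g, ⟨hg, mem_stab_mask hr (allL_iff.1 h c hc)⟩, hr⟩

theorem codes24 {L : List ℕ} (h : allL L inM24 = true) : CodesIn R24 L M24 := fun c hc =>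
  ⟨_, (inM24_spec (allL_iff.1 h c hc)).2, (inM24_spec (allL_iff.1 h c hc)).1⟩

def in23 (c : ℕ) : Bool := band (inM24 c) (Nat.beq (get24 c 23) 23)
def in22 (c : ℕ) : Bool := band (in23 c) (Nat.beq (get24 c 0) 0)
def in21 (c : ℕ) : Bool := band (in22 c) (Nat.beq (get24 c 1) 1)
def in12 (c : ℕ) : Bool := band (inM24 c) (Nat.beq (img24 c cD) cD)
def in11 (c : ℕ) : Bool := band (in12 c) (Nat.beq (get24 c 0) 0)

theorem allL_band {α : Type} {L : List α} {f g : α → Bool} (h : allL L (fun c => band (f c) (g c)) = true) :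
    allL L f = true ∧ allL L g = true := by
  simp only [allL_iff, band_eq, Bool.and_eq_true] at h ⊢
  exact ⟨fun a ha => (h a ha).1, fun a ha => (h a ha).2⟩

theorem codes23 {L : List ℕ} (h : allL L in23 = true) : CodesIn R24 L M23 :=
  CodesIn_stab_pt (i := 23) (codes24 (allL_band h).1) (by norm_num) (allL_band h).2
theorem codes22 {L : List ℕ} (h : allL L in22 = true) : CodesIn R24 L M22 :=
  CodesIn_stab_pt (i := 0) (codes23 (allL_band h).1) (by norm_num) (allL_band h).2
theorem codes21 {L : List ℕ} (h : allL L in21 = true) : CodesIn R24 L M21 :=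
  CodesIn_stab_pt (i := 1) (codes22 (allL_band h).1) (by norm_num) (allL_band h).2
theorem codes12 {L : List ℕ} (h : allL L in12 = true) : CodesIn R24 L M12 := by
  rw [M12, squareDodecad_eq]
  exact CodesIn_stab_mask (codes24 (allL_band h).1) (allL_band h).2
theorem codes11 {L : List ℕ} (h : allL L in11 = true) : CodesIn R24 L M11 :=
  CodesIn_stab_pt (i := 0) (codes12 (allL_band h).1) (by norm_num) (allL_band h).2

theorem M23_le : M23 ≤ M24 := inf_le_left
theorem M22_le : M22 ≤ M24 := inf_le_left.trans M23_le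
theorem M21_le : M21 ≤ M24 := inf_le_left.trans M22_le
theorem M12_le : M12 ≤ M24 := inf_le_left
theorem M11_le : M11 ≤ M24 := inf_le_left.trans M12_le

/-! ### point stabilisers -/

/-- the 23, 22, 21 points moved by `M23, M22, M21`. -/
abbrev P23 : Set GolayPt := Set.univ \ {none}
abbrev P22 : Set GolayPt := P23 \ {some 0}
abbrev P21 : Set GolayPt := P22 \ {some 1}

theorem ncard_P23 : P23.ncard = 23 := by
  rw [Set.ncard_sdiff_singleton_of_mem (Set.mem_univ _), ncard_univ_pt]
theorem ncard_P22 : P22.ncard = 22 := by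
  rw [Set.ncard_sdiff_singleton_of_mem (by simp), ncard_P23]
theorem ncard_P21 : P21.ncard = 21 := by
  rw [Set.ncard_sdiff_singleton_of_mem (by simp; decide), ncard_P22]

theorem invar24 : ∀ g ∈ M24, ∀ a ∈ (Set.univ : Set GolayPt), g • a ∈ (Set.univ : Set GolayPt) :=
  fun _ _ _ _ => trivial
theorem invar23 : ∀ g ∈ M23, ∀ a ∈ P23, g • a ∈ P23 := inv_sdiff_stabilizer invar24 _
theorem invar22 : ∀ g ∈ M22, ∀ a ∈ P22, g • a ∈ P22 := inv_sdiff_stabilizer invar23 _
theorem invar21 : ∀ g ∈ M21, ∀ a ∈ P21, g • a ∈ P21 := inv_sdiff_stabilizer invar22 _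

theorem trans23 : TransOn M23 P23 4 := trans5.fix trivial
theorem trans22 : TransOn M22 P22 3 := trans23.fix (by simp)
theorem trans21 : TransOn M21 P21 2 := trans22.fix (by simp; decide)

theorem card_stab_of_trans {K : Subgroup PG} {S : Set GolayPt} {k a b : ℕ} (h : TransOn K S (k + 1))
    (hinv : ∀ g ∈ K, ∀ a ∈ S, g • a ∈ S) (hS : S.ncard = a) (hk : k + 1 ≤ a) (hK : Nat.card K = a * b)
    {x : GolayPt} (hx : x ∈ S) : Nat.card ↥(K ⊓ stabilizer PG x) = b :=
  card_inf_stabilizer_of_orbit (by rw [(h.mono (by omega) (by omega)).orbit_point hinv hx, hS])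
    (by omega) hK

theorem card_M23 : Nat.card M23 = 10200960 :=
  card_stab_of_trans trans5 invar24 ncard_univ_pt (by norm_num) card_M24 trivial
theorem card_M22 : Nat.card M22 = 443520 :=
  card_stab_of_trans trans23 invar23 ncard_P23 (by norm_num) card_M23 (by simp)
theorem card_M21 : Nat.card M21 = 20160 :=
  card_stab_of_trans trans22 invar22 ncard_P22 (by norm_num) card_M22 (by simp; decide)
theorem card_M20 : Nat.card ↥(M21 ⊓ stabilizer PG (some 2 : GolayPt)) = 960 :=
  card_stab_of_trans trans21 invar21 ncard_P21 (by norm_num) card_M21 (by simp; decide)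

theorem faith_sdiff {K : Subgroup PG} {S : Set GolayPt} (hf : ∀ g ∈ K, (∀ a ∈ S, g • a = a) → g = 1)
    (x : GolayPt) : ∀ g ∈ K ⊓ stabilizer PG x, (∀ a ∈ S \ {x}, g • a = a) → g = 1 := fun g hg h =>
  hf g hg.1 fun a ha => by
    by_cases e : a = x
    · rw [e]; exact hg.2
    · exact h a ⟨ha, e⟩

theorem faith24 : ∀ g ∈ M24, (∀ a ∈ (Set.univ : Set GolayPt), g • a = a) → g = 1 :=
  fun _ _ h => Equiv.ext fun a => h a trivial
theorem faith23 : ∀ g ∈ M23, (∀ a ∈ P23, g • a = a) → g = 1 := faith_sdiff faith24 _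
theorem faith22 : ∀ g ∈ M22, (∀ a ∈ P22, g • a = a) → g = 1 := faith_sdiff faith23 _
theorem faith21 : ∀ g ∈ M21, (∀ a ∈ P21, g • a = a) → g = 1 := faith_sdiff faith22 _

/-- two elements of order 23 generating `M23`. -/
def g23 : List ℕ := [955483615880854705105895986207795713, 970252183714698779206789672407306860]
def w23 : List (List ℕ) := [[1, 3, 1, 3, 1, 2, 2, 1], [1, 3, 3, 5], [5, 7, 7, 1, 5, 5, 7, 4, 0, 0],
  [9, 9, 9, 9, 7, 9, 7, 5, 6, 6], [11, 9, 9, 7, 9, 3, 5, 2, 8, 3, 0],
  [11, 13, 11, 13, 11, 9, 9, 13, 9, 7, 1, 1, 8, 5, 8, 10, 8, 2], [15, 13, 11, 11, 11, 14],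
  [15, 15, 11, 11, 15, 16, 11, 14, 14, 11, 17], [15, 15, 11, 19, 9, 9, 15, 9, 9, 16]]
/-- two elements of order 11 generating `M22`. -/
def g22 : List ℕ := [981468555547427258411106259671953984, 958615196965319449483767856423475552]
def w22 : List (List ℕ) := [[1, 3, 3, 3, 3, 0, 3], [5, 5, 5, 5, 1, 3, 4, 1],
  [7, 7, 5, 7, 5, 1, 1, 1, 2, 4, 2, 1, 4, 2], [9, 9, 1, 1, 5, 1, 1, 5, 7],
  [7, 7, 5, 5, 3, 11, 1, 5, 6, 5, 9, 10], [9, 12, 8], [9, 7, 7, 7, 15, 15, 10, 7, 10]]
/-- two elements of order 7 generating `M21`. -/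
def g21 : List ℕ := [968750539936887401046328483453047840, 958673776177600397480270140737245216]
def w21 : List (List ℕ) := [[1, 2, 2, 1], [5, 1, 3, 3, 5], [3, 5, 7, 4, 0, 0], [5, 5, 7, 5, 6, 6],
  [9, 9, 2, 8, 3, 0], [5, 5, 1, 1, 13, 5, 2, 2], [13, 5, 13, 8, 15, 9]]
/-- two elements of order 11 generating `M11`. -/
def g11 : List ℕ := [981961655557129122158317375920062528, 470864514204513582479662038390998144]
def w11 : List (List ℕ) := [[3, 3, 1, 3, 0, 3], [3, 4, 1], [3, 1, 1, 5, 7],
  [9, 9, 7, 7, 5, 9, 1, 1, 3, 1, 5, 6, 5, 9, 3]]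

theorem codes_g23 : CodesIn R24 g23 M23 := codes23 (by decide +kernel)
theorem codes_g22 : CodesIn R24 g22 M22 := codes22 (by decide +kernel)
theorem codes_g21 : CodesIn R24 g21 M21 := codes21 (by decide +kernel)
theorem codes_g11 : CodesIn R24 g11 M11 := codes11 (by decide +kernel)

/-- a list of codes in `K` whose straight-line program yields a full stabiliser chain generates `K`. -/
theorem closure_eq_of_slp {K : Subgroup PG} {L : List ℕ} (hL : CodesIn R24 L K) (B : List ℕ)
    (ws : List (List ℕ)) {N : ℕ} (hN : Nat.card K = N)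
    (h : band (allL B (fun b => Nat.blt b 24)) (Nat.ble N (chainL get24 (fun a => a) 30 B
      (slpW mul24 inv24 one24 ws L))) = true) : Subgroup.closure (genSet R24 L) = K :=
  eq_of_slpP par24 ws (hL.closure_le fun _ _ _ h h' => h.unique h') hL.closure 30 hN h

theorem closure_g23 : Subgroup.closure (genSet R24 g23) = M23 :=
  closure_eq_of_slp codes_g23 [0, 1, 2, 3, 5, 4] w23 card_M23 (by decide +kernel)
theorem closure_g22 : Subgroup.closure (genSet R24 g22) = M22 :=
  closure_eq_of_slp codes_g22 [1, 2, 3, 5, 4] w22 card_M22 (by decide +kernel)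
theorem closure_g21 : Subgroup.closure (genSet R24 g21) = M21 :=
  closure_eq_of_slp codes_g21 [2, 3, 5, 4] w21 card_M21 (by decide +kernel)

theorem le_closure_pow {K : Subgroup PG} {L : List ℕ} (hL : CodesIn R24 L K)
    (hc : Subgroup.closure (genSet R24 L) = K) {k : ℕ}
    (hk : allL L (fun c => Nat.beq (powC mul24 one24 c k) one24) = true) :
    K ≤ Subgroup.closure {g | g ∈ K ∧ g ^ k = 1} := by
  refine hc.ge.trans (Subgroup.closure_mono ?_)
  rintro g ⟨c, hc', hr⟩
  exact ⟨hc ▸ Subgroup.subset_closure ⟨c, hc', hr⟩, hr.pow_eq_one par24 (allL_iff.1 hk c hc')⟩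

theorem simple_M21 : IsSimpleGroup M21 :=
  simple_sub_coprime (x := some 2) trans21 (by rw [ncard_P21]; norm_num) (by simp; decide) invar21 faith21
    (k := 7) (by rw [card_M20]; norm_num) (le_closure_pow codes_g21 closure_g21 (by decide +kernel))

theorem simple_M22 : IsSimpleGroup M22 :=
  simple_sub_coprime (x := some 1) (trans22.pred (by rw [ncard_P22]; norm_num)) (by rw [ncard_P22]; norm_num)
    (by simp; decide) invar22 faith22 (k := 11) (by rw [show Nat.card ↥(M22 ⊓ _) = _ from card_M21]; norm_num)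
    (le_closure_pow codes_g22 closure_g22 (by decide +kernel))

theorem simple_M23 : IsSimpleGroup M23 :=
  simple_sub_coprime (x := some 0) (trans23.mono (by norm_num) (by rw [ncard_P23]; norm_num))
    (by rw [ncard_P23]; norm_num) (by simp) invar23 faith23 (k := 23)
    (by rw [show Nat.card ↥(M23 ⊓ _) = _ from card_M22]; norm_num)
    (le_closure_pow codes_g23 closure_g23 (by decide +kernel))

theorem simple_M24 : IsSimpleGroup M24 :=
  simple_sub_two_trans (x := none) (trans_le (by norm_num)) (by rw [ncard_univ_pt]; norm_num) trivial invar24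
    faith24 simple_M23 Nat.prime_two Nat.prime_three (by norm_num) (by rw [ncard_univ_pt]; norm_num)
    (by rw [ncard_univ_pt]; norm_num)

/-! ### `M12` and `M11` -/

/-- the standard dodecad as a set, and its complement. -/
abbrev D12 : Set GolayPt := (squareDodecad : Set GolayPt)
abbrev D12' : Set GolayPt := ((squareDodecadᶜ : Finset GolayPt) : Set GolayPt)
abbrev D11 : Set GolayPt := D12 \ {some 0}

theorem compl_squareDodecad_eq : squareDodecadᶜ = EG.ofMask 16436384 := by
  rw [squareDodecad_eq, ← EG.ofMask_compl]; rfl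

theorem zero_mem_D12 : (some 0 : GolayPt) ∈ D12 := by
  rw [D12, squareDodecad_eq, Finset.mem_coe, EG.mem_ofMask]; decide
theorem one_mem_D11 : (some 1 : GolayPt) ∈ D11 :=
  ⟨by rw [D12, squareDodecad_eq, Finset.mem_coe, EG.mem_ofMask]; decide, by decide⟩

theorem ncard_D12 : D12.ncard = 12 := by rw [Set.ncard_coe_finset, card_squareDodecad]
theorem ncard_D12' : D12'.ncard = 12 := by
  rw [Set.ncard_coe_finset, Finset.card_compl, card_squareDodecad, card_pt]
theorem ncard_D11 : D11.ncard = 11 := by rw [Set.ncard_sdiff_singleton_of_mem zero_mem_D12, ncard_D12]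

theorem smul_mem_iff_of_stab {g : PG} {S : Finset GolayPt} (hg : g ∈ stabilizer PG S) {a : GolayPt} :
    g • a ∈ S ↔ a ∈ S := by
  conv_lhs => rw [← mem_stabilizer_iff.1 hg]
  exact Finset.smul_mem_smul_finset_iff g

theorem invar12 : ∀ g ∈ M12, ∀ a ∈ D12, g • a ∈ D12 := fun _ hg _ ha => (smul_mem_iff_of_stab hg.2).2 ha
theorem invar12' : ∀ g ∈ M12, ∀ a ∈ D12', g • a ∈ D12' := fun _ hg _ ha =>
  Finset.mem_compl.2 fun h => Finset.mem_compl.1 ha ((smul_mem_iff_of_stab hg.2).1 h)
theorem invar11 : ∀ g ∈ M11, ∀ a ∈ D11, g • a ∈ D11 := inv_sdiff_stabilizer invar12 _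

theorem card_M12 : Nat.card M12 = 95040 :=
  card_inf_stabilizer_of_orbit (a := 2576) (by rw [orbit_dodecad squareDodecad_mem, ncard_dodecads_eq])
    (by norm_num) card_M24

/-- strong generators of `M12` for the base `[0,1,2,3,4]`. -/
def L12 : List ℕ := [608405391266436187982588441666881568, 227578386318009578406903204956702752,
  858988336336270505570052787752405024, 809012758828975091259564428754305056,
  733720896890339134487563409560778240, 902386726192502817449513040966197378]

theorem codes_L12 : CodesIn R24 L12 M12 := codes12 (by decide +kernel)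

theorem closure_L12 : Subgroup.closure (genSet R24 L12) = M12 :=
  closure_eq_of_slp codes_L12 [0, 1, 2, 3, 4] [] card_M12 (by decide +kernel)

theorem trans12 : TransOn M12 D12 5 := by
  rw [D12, squareDodecad_eq]
  exact transOn_of_chainP (E := EG) (B := [0, 1, 2, 3, 4]) 30 codes_L12
    (by rw [← squareDodecad_eq]; exact invar12) (by decide +kernel)

theorem trans12' : TransOn M12 D12' 5 := by
  rw [D12', compl_squareDodecad_eq]
  exact transOn_of_chainP (E := EG) (B := [5, 7, 10, 11, 14]) 30
    (codes12 (L := [934032380883359259694027321775538765, 734009886605896437818726842368132204,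
      609703779158974565844330200338366498, 487602636024792997539741380035284102,
      932452846071803896705486275099370642, 237195773154028265648287671810824616]) (by decide +kernel))
    (by rw [← compl_squareDodecad_eq]; exact invar12') (by decide +kernel)

theorem trans11 : TransOn M11 D11 4 := trans12.fix zero_mem_D12

theorem trans11' : TransOn M11 D12' 3 := by
  rw [D12', compl_squareDodecad_eq]
  exact transOn_of_chainP (E := EG) (B := [5, 7, 10]) 30
    (codes11 (L := [721064549862662597311266359538158624, 846006609170562187231793974236776576,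
      653361943013370426771772528055623968, 980958309107290892929826708479459520,
      437924731901784905176179779782852672]) (by decide +kernel))
    (by rw [← compl_squareDodecad_eq]; exact fun g hg => invar12' g hg.1) (by decide +kernel)

theorem card_M11 : Nat.card M11 = 7920 :=
  card_stab_of_trans trans12 invar12 ncard_D12 (by norm_num) card_M12 zero_mem_D12

theorem card_M10 : Nat.card ↥(M11 ⊓ stabilizer PG (some 1 : GolayPt)) = 720 :=
  card_stab_of_trans trans11 invar11 ncard_D11 (by norm_num) card_M11 one_mem_D11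

theorem closure_g11 : Subgroup.closure (genSet R24 g11) = M11 :=
  closure_eq_of_slp codes_g11 [1, 2, 3, 4] w11 card_M11 (by decide +kernel)

/-- sharpness: if `|K|` is the number of tuples, tuple stabilisers are trivial. -/
theorem eq_one_of_sharp {K : Subgroup PG} {S : Set GolayPt} {k : ℕ} (h : TransOn K S k)
    (hinv : ∀ g ∈ K, ∀ a ∈ S, g • a ∈ S) (hK : Nat.card K = S.ncard.descFactorial k)
    {x : Fin k ↪ GolayPt} (hx : ∀ i, x i ∈ S) {g : PG} (hg : g ∈ K) (e : ∀ i, g • x i = x i) : g = 1 := by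
  have h1 := h.card_eq (Set.toFinite _) hinv hx
  rw [← hK] at h1
  have h2 : Nat.card ↥(K ⊓ stabilizer PG x) = 1 :=
    Nat.eq_of_mul_eq_mul_left Nat.card_pos (h1.symm.trans (mul_one _).symm)
  rw [Subgroup.card_eq_one] at h2
  exact Subgroup.mem_bot.1 (h2 ▸ ⟨hg, mem_stabilizer_embedding.2 e⟩)

theorem sharp12 {x : Fin 5 ↪ GolayPt} (hx : ∀ i, x i ∈ D12) {g : PG} (hg : g ∈ M12)
    (e : ∀ i, g • x i = x i) : g = 1 :=
  eq_one_of_sharp trans12 invar12 (by rw [card_M12, ncard_D12]; rfl) hx hg e

theorem sharp12' {x : Fin 5 ↪ GolayPt} (hx : ∀ i, x i ∈ D12') {g : PG} (hg : g ∈ M12)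
    (e : ∀ i, g • x i = x i) : g = 1 :=
  eq_one_of_sharp trans12' invar12' (by rw [card_M12, ncard_D12']; rfl) hx hg e

theorem exists_embedding_mem {S : Set GolayPt} {k : ℕ} (h : k ≤ S.ncard) :
    ∃ x : Fin k ↪ GolayPt, ∀ i, x i ∈ S := by
  apply Set.nonempty_of_ncard_ne_zero (s := {x : Fin k ↪ GolayPt | ∀ i, x i ∈ S})
  rw [(ncard_embedding_mem (Set.toFinite S) k).2]
  exact (Nat.descFactorial_pos.2 h).ne'

theorem faith12 : ∀ g ∈ M12, (∀ a ∈ D12, g • a = a) → g = 1 := fun _ hg h =>
  let ⟨_, hx⟩ := exists_embedding_mem (S := D12) (k := 5) (by rw [ncard_D12]; norm_num)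
  sharp12 hx hg fun i => h _ (hx i)

theorem faith12' : ∀ g ∈ M12, (∀ a ∈ D12', g • a = a) → g = 1 := fun _ hg h =>
  let ⟨_, hx⟩ := exists_embedding_mem (S := D12') (k := 5) (by rw [ncard_D12']; norm_num)
  sharp12' hx hg fun i => h _ (hx i)

theorem faith11 : ∀ g ∈ M11, (∀ a ∈ D11, g • a = a) → g = 1 := faith_sdiff faith12 _

theorem simple_M11 : IsSimpleGroup M11 :=
  simple_sub_coprime (trans11.mono (by norm_num) (by rw [ncard_D11]; norm_num))
    (by rw [ncard_D11]; norm_num) one_mem_D11 invar11 faith11 (k := 11) (by rw [card_M10]; norm_num)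
    (le_closure_pow codes_g11 closure_g11 (by decide +kernel))

theorem simple_M12 : IsSimpleGroup M12 :=
  simple_sub_two_trans (trans12.mono (by norm_num) (by rw [ncard_D12]; norm_num))
    (by rw [ncard_D12]; norm_num) zero_mem_D12 invar12 faith12 simple_M11 Nat.prime_two Nat.prime_three
    (by norm_num) (by rw [ncard_D12]; norm_num) (by rw [ncard_D12]; norm_num)

/-! ### transport to arbitrary stabilisers -/

section transport

variable {G : Type*} [Group G] {K : Subgroup G}

theorem map_stab {X : Type*} [MulAction G X] {g : G} (hg : g ∈ K) {x y : X} (e : g • x = y) :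
    ((stabilizer K x).map K.subtype).map (MulAut.conj g).toMonoidHom = K ⊓ stabilizer G y := by
  rw [map_subtype_stabilizer, map_conj_inf, map_conj_self hg, map_conj_stabilizer, e]

theorem map_map_inf (g : G) (A B : Subgroup K) :
    ((A ⊓ B).map K.subtype).map (MulAut.conj g).toMonoidHom =
      (A.map K.subtype).map (MulAut.conj g).toMonoidHom ⊓ (B.map K.subtype).map (MulAut.conj g).toMonoidHom := by
  rw [map_subtype_inf, map_conj_inf]

/-- a subgroup of `K` is isomorphic to a conjugate of its image in `G`. -/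
noncomputable def subConjEquiv (A : Subgroup K) (g : G) {L : Subgroup G}
    (h : (A.map K.subtype).map (MulAut.conj g).toMonoidHom = L) : A ≃* L :=
  (mapSubtypeEquiv A rfl).trans (conjEquiv g h)

end transport

theorem equiv23 (p : GolayPt) : Nonempty (stabilizer M24 p ≃* M23) :=
  let ⟨g, hg, e⟩ := (trans_le (by norm_num)).one (a := p) (b := none) trivial trivial
  ⟨subConjEquiv _ g (map_stab hg e)⟩

theorem equiv22 {p q : GolayPt} (h : p ≠ q) : Nonempty (↥(stabilizer M24 p ⊓ stabilizer M24 q) ≃* M22) := by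
  obtain ⟨g, hg, e1, e2⟩ := (trans_le (by norm_num)).two (a := p) (b := q) (c := none) (d := some 0)
    trivial trivial trivial trivial h (by simp)
  refine ⟨subConjEquiv _ g ?_⟩
  rw [map_map_inf, map_stab hg e1, map_stab hg e2, M22, M23]
  ext x; simp only [Subgroup.mem_inf]; tauto

theorem equiv21 {p q r : GolayPt} (h1 : p ≠ q) (h2 : p ≠ r) (h3 : q ≠ r) :
    Nonempty (↥(stabilizer M24 p ⊓ stabilizer M24 q ⊓ stabilizer M24 r) ≃* M21) := by
  obtain ⟨g, hg, e⟩ := (trans_le (k := 3) (by norm_num)).exists_list (l := [p, q, r])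
    (l' := [none, some 0, some 1]) (by simp [*]) (by decide) rfl rfl (by simp) (by simp)
  simp only [List.map_cons, List.map_nil, List.cons.injEq, and_true] at e
  refine ⟨subConjEquiv _ g ?_⟩
  rw [map_map_inf, map_map_inf, map_stab hg e.1, map_stab hg e.2.1, map_stab hg e.2.2, M21, M22, M23]
  ext x; simp only [Subgroup.mem_inf]; tauto

theorem equiv12 {d : Finset GolayPt} (hd : d ∈ dodecads) : Nonempty (stabilizer M24 d ≃* M12) :=
  let ⟨g, hg, e⟩ := dodecad_trans hd squareDodecad_mem
  ⟨subConjEquiv _ g (map_stab hg e)⟩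

/-- normalising a dodecad together with one of its points. -/
theorem dodecad_point_trans {d : Finset GolayPt} (hd : d ∈ dodecads) {p : GolayPt} (hp : p ∈ d) :
    ∃ g ∈ M24, g • d = squareDodecad ∧ g • p = some 0 := by
  obtain ⟨g, hg, e⟩ := dodecad_trans hd squareDodecad_mem
  obtain ⟨h, hh, e'⟩ := (trans12.mono (j := 1) (by norm_num) (by rw [ncard_D12]; norm_num)).one
    (a := g • p) (by rw [D12, ← e]; exact Finset.smul_mem_smul_finset hp) zero_mem_D12
  exact ⟨h * g, M24.mul_mem hh.1 hg, by rw [mul_smul, e]; exact hh.2, by rw [mul_smul, e']⟩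

theorem equiv11 {d : Finset GolayPt} (hd : d ∈ dodecads) {p : GolayPt} (hp : p ∈ d) :
    Nonempty (↥(stabilizer M24 d ⊓ stabilizer M24 p) ≃* M11) := by
  obtain ⟨g, hg, e1, e2⟩ := dodecad_point_trans hd hp
  refine ⟨subConjEquiv _ g ?_⟩
  rw [map_map_inf, map_stab hg e1, map_stab hg e2, M11, M12]
  ext x; simp only [Subgroup.mem_inf]; tauto

end Cfsg.Agent.Golay
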