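import Cfsg.Agent.Golay.Std

/-! Orbit decompositions (`OrbStruct`) of the standard octad / sextet / trio / duad / triad / dodecad-pair stabilisers on
octads, sextets, trios, duads, triads, dodecad pairs: `os_Oct_oct`, `os_Oct_sx`, `os_Oct_tr`, `os_Sx_oct`, `os_Sx_sx`,
`os_Sx_tr`, `os_Tr_oct`, `os_Tr_sx`, `os_Tr_tr`, `os_DP_sx`, `os_DP_dp`, `os_Duad_duad`, `os_Triad_triad`, and their
transport to arbitrary objects `OrbStruct.stab_smul`. -/

set_option autoImplicit false

namespace Cfsg.Agent.Golay

open Cfsg.Agent.Comp MulAction Finset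
open scoped Pointwise

theorem inv_dpairs (g : MG) : ∀ S ∈ dpairs, g • S ∈ dpairs := by
  rintro _ ⟨d, hd, rfl⟩; exact ⟨_, inv_dodecads g d hd, smul_dpair g d⟩

theorem inv_card (k : ℕ) (g : MG) : ∀ S ∈ {t : Finset GolayPt | t.card = k}, g • S ∈ {t : Finset GolayPt | t.card = k} :=
  fun S hS => (card_smul_finset g S).trans hS

theorem _root_.Cfsg.Agent.Comp.OrbStruct.stab_smul {G X Y : Type*} [Group G] [MulAction G X] [MulAction G Y] {x : X}
    {U : Set Y} {r : ℕ} {s : Fin r → ℕ} (h : OrbStruct (stabilizer G x) U s) (hinv : ∀ (g : G), ∀ y ∈ U, g • y ∈ U)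
    (g : G) : OrbStruct (stabilizer G (g • x)) U s :=
  h.conj g (map_conj_stabilizer g x) (smul_set_eq_of_inv hinv g)

theorem iUnion_fin3 {α : Type*} (f : Fin 3 → Set α) : ⋃ i, f i = f 0 ∪ f 1 ∪ f 2 := by
  ext; simp [Fin.exists_fin_succ, or_assoc]
theorem iUnion_fin4 {α : Type*} (f : Fin 4 → Set α) : ⋃ i, f i = f 0 ∪ f 1 ∪ f 2 ∪ f 3 := by
  ext; simp [Fin.exists_fin_succ, or_assoc]

set_option maxRecDepth 100000 in
theorem os_Oct_oct_0 : (orbit (stabilizer MG oct0) (EG.ofMask 8536111)).ncard = 1 :=
  Keyed.ncard_orbit (C := kCw) codes_Oct closure_Oct (kCw_P (by decide +kernel)) 6 (by norm_num) (by decide +kernel)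

set_option maxRecDepth 100000 in
theorem os_Oct_oct_1 : (orbit (stabilizer MG oct0) (EG.ofMask 6889680)).ncard = 30 :=
  Keyed.ncard_orbit (C := kCw) codes_Oct closure_Oct (kCw_P (by decide +kernel)) 35 (by norm_num) (by decide +kernel)

set_option maxRecDepth 100000 in
theorem os_Oct_oct_2 : (orbit (stabilizer MG oct0) (EG.ofMask 13062145)).ncard = 280 :=
  Keyed.ncard_orbit (C := kCw) codes_Oct closure_Oct (kCw_P (by decide +kernel)) 285 (by norm_num) (by decide +kernel)

set_option maxRecDepth 100000 in
theorem os_Oct_oct_3 : (orbit (stabilizer MG oct0) (EG.ofMask 4845570)).ncard = 448 :=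
  Keyed.ncard_orbit (C := kCw) codes_Oct closure_Oct (kCw_P (by decide +kernel)) 453 (by norm_num) (by decide +kernel)

theorem os_Oct_oct : OrbStruct (stabilizer MG oct0) octads ![1, 30, 280, 448] :=
  orbStruct_of ![EG.ofMask 8536111, EG.ofMask 6889680, EG.ofMask 13062145, EG.ofMask 4845570] (Set.toFinite _) (fun g _ => inv_octads g)
    (fun i => by fin_cases i; exacts [ofMask_mem_octads (by decide +kernel) (by decide +kernel), ofMask_mem_octads (by decide +kernel) (by decide +kernel), ofMask_mem_octads (by decide +kernel) (by decide +kernel), ofMask_mem_octads (by decide +kernel) (by decide +kernel)])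
    (fun i => by fin_cases i; exacts [os_Oct_oct_0, os_Oct_oct_1, os_Oct_oct_2, os_Oct_oct_3])
    (by decide) (by rw [ncard_octads_eq]; decide +kernel)

set_option maxRecDepth 100000 in
theorem os_Oct_sx_0 : (orbit (stabilizer MG oct0) (sextetOf (EG.ofMask 16428))).ncard = 35 :=
  Keyed.ncard_orbit (C := kSx) codes_Oct closure_Oct (kSx_P (by decide +kernel)) 40 (by norm_num) (by decide +kernel)

set_option maxRecDepth 100000 in
theorem os_Oct_sx_1 : (orbit (stabilizer MG oct0) (sextetOf (EG.ofMask 8389377))).ncard = 840 :=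
  Keyed.ncard_orbit (C := kSx) codes_Oct closure_Oct (kSx_P (by decide +kernel)) 845 (by norm_num) (by decide +kernel)

set_option maxRecDepth 100000 in
theorem os_Oct_sx_2 : (orbit (stabilizer MG oct0) (sextetOf (EG.ofMask 1048880))).ncard = 896 :=
  Keyed.ncard_orbit (C := kSx) codes_Oct closure_Oct (kSx_P (by decide +kernel)) 901 (by norm_num) (by decide +kernel)

theorem os_Oct_sx : OrbStruct (stabilizer MG oct0) sextets ![35, 840, 896] :=
  orbStruct_of ![sextetOf (EG.ofMask 16428), sextetOf (EG.ofMask 8389377), sextetOf (EG.ofMask 1048880)] (Set.toFinite _) (fun g _ => inv_sextets g)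
    (fun i => by fin_cases i; exacts [kSx_mem (kSx_P (by decide +kernel)), kSx_mem (kSx_P (by decide +kernel)), kSx_mem (kSx_P (by decide +kernel))])
    (fun i => by fin_cases i; exacts [os_Oct_sx_0, os_Oct_sx_1, os_Oct_sx_2])
    (by decide) (by rw [ncard_sextets]; decide +kernel)

set_option maxRecDepth 100000 in
theorem os_Oct_tr_0 : (orbit (stabilizer MG oct0) (trioOf (EG.ofMask (lo24 132594507333679)) (EG.ofMask (hi24 132594507333679)))).ncard = 15 :=
  ncard_orbit_trio codes_Oct closure_Oct (by decide +kernel) (by norm_num) (by decide +kernel)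

set_option maxRecDepth 100000 in
theorem os_Oct_tr_1 : (orbit (stabilizer MG oct0) (trioOf (EG.ofMask (lo24 88511709784000)) (EG.ofMask (hi24 88511709784000)))).ncard = 420 :=
  ncard_orbit_trio codes_Oct closure_Oct (by decide +kernel) (by norm_num) (by decide +kernel)

set_option maxRecDepth 100000 in
theorem os_Oct_tr_2 : (orbit (stabilizer MG oct0) (trioOf (EG.ofMask (lo24 250310695061428)) (EG.ofMask (hi24 250310695061428)))).ncard = 3360 :=
  ncard_orbit_trio codes_Oct closure_Oct (by decide +kernel) (by norm_num) (by decide +kernel)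

theorem os_Oct_tr : OrbStruct (stabilizer MG oct0) trios ![15, 420, 3360] :=
  orbStruct_of ![trioOf (EG.ofMask (lo24 132594507333679)) (EG.ofMask (hi24 132594507333679)), trioOf (EG.ofMask (lo24 88511709784000)) (EG.ofMask (hi24 88511709784000)), trioOf (EG.ofMask (lo24 250310695061428)) (EG.ofMask (hi24 250310695061428))] (Set.toFinite _) (fun g _ => inv_trios g)
    (fun i => by fin_cases i; exacts [kTr_mem (kTr_P (by decide +kernel)), kTr_mem (kTr_P (by decide +kernel)), kTr_mem (kTr_P (by decide +kernel))])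
    (fun i => by fin_cases i; exacts [os_Oct_tr_0, os_Oct_tr_1, os_Oct_tr_2])
    (by decide) (by rw [ncard_trios]; decide +kernel)

set_option maxRecDepth 100000 in
theorem os_Sx_oct_0 : (orbit (stabilizer MG sext0) (EG.ofMask 3416079)).ncard = 15 :=
  Keyed.ncard_orbit (C := kCw) codes_Sx closure_Sx (kCw_P (by decide +kernel)) 20 (by norm_num) (by decide +kernel)

set_option maxRecDepth 100000 in
theorem os_Sx_oct_1 : (orbit (stabilizer MG sext0) (EG.ofMask 9347075)).ncard = 360 :=
  Keyed.ncard_orbit (C := kCw) codes_Sx closure_Sx (kCw_P (by decide +kernel)) 365 (by norm_num) (by decide +kernel)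

set_option maxRecDepth 100000 in
theorem os_Sx_oct_2 : (orbit (stabilizer MG sext0) (EG.ofMask 13062145)).ncard = 384 :=
  Keyed.ncard_orbit (C := kCw) codes_Sx closure_Sx (kCw_P (by decide +kernel)) 389 (by norm_num) (by decide +kernel)

theorem os_Sx_oct : OrbStruct (stabilizer MG sext0) octads ![15, 360, 384] :=
  orbStruct_of ![EG.ofMask 3416079, EG.ofMask 9347075, EG.ofMask 13062145] (Set.toFinite _) (fun g _ => inv_octads g)
    (fun i => by fin_cases i; exacts [ofMask_mem_octads (by decide +kernel) (by decide +kernel), ofMask_mem_octads (by decide +kernel) (by decide +kernel), ofMask_mem_octads (by decide +kernel) (by decide +kernel)])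
    (fun i => by fin_cases i; exacts [os_Sx_oct_0, os_Sx_oct_1, os_Sx_oct_2])
    (by decide) (by rw [ncard_octads_eq]; decide +kernel)

set_option maxRecDepth 100000 in
theorem os_Sx_sx_0 : (orbit (stabilizer MG sext0) (sextetOf (EG.ofMask 15))).ncard = 1 :=
  Keyed.ncard_orbit (C := kSx) codes_Sx closure_Sx (kSx_P (by decide +kernel)) 6 (by norm_num) (by decide +kernel)

set_option maxRecDepth 100000 in
theorem os_Sx_sx_1 : (orbit (stabilizer MG sext0) (sextetOf (EG.ofMask 4195520))).ncard = 90 :=
  Keyed.ncard_orbit (C := kSx) codes_Sx closure_Sx (kSx_P (by decide +kernel)) 95 (by norm_num) (by decide +kernel)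

set_option maxRecDepth 100000 in
theorem os_Sx_sx_2 : (orbit (stabilizer MG sext0) (sextetOf (EG.ofMask 2113920))).ncard = 240 :=
  Keyed.ncard_orbit (C := kSx) codes_Sx closure_Sx (kSx_P (by decide +kernel)) 245 (by norm_num) (by decide +kernel)

set_option maxRecDepth 100000 in
theorem os_Sx_sx_3 : (orbit (stabilizer MG sext0) (sextetOf (EG.ofMask 1048880))).ncard = 1440 :=
  Keyed.ncard_orbit (C := kSx) codes_Sx closure_Sx (kSx_P (by decide +kernel)) 1445 (by norm_num) (by decide +kernel)

theorem os_Sx_sx : OrbStruct (stabilizer MG sext0) sextets ![1, 90, 240, 1440] :=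
  orbStruct_of ![sextetOf (EG.ofMask 15), sextetOf (EG.ofMask 4195520), sextetOf (EG.ofMask 2113920), sextetOf (EG.ofMask 1048880)] (Set.toFinite _) (fun g _ => inv_sextets g)
    (fun i => by fin_cases i; exacts [kSx_mem (kSx_P (by decide +kernel)), kSx_mem (kSx_P (by decide +kernel)), kSx_mem (kSx_P (by decide +kernel)), kSx_mem (kSx_P (by decide +kernel))])
    (fun i => by fin_cases i; exacts [os_Sx_sx_0, os_Sx_sx_1, os_Sx_sx_2, os_Sx_sx_3])
    (by decide) (by rw [ncard_sextets]; decide +kernel)

set_option maxRecDepth 100000 in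
theorem os_Sx_tr_0 : (orbit (stabilizer MG sext0) (trioOf (EG.ofMask (lo24 127724819726383)) (EG.ofMask (hi24 127724819726383)))).ncard = 15 :=
  ncard_orbit_trio codes_Sx closure_Sx (by decide +kernel) (by norm_num) (by decide +kernel)

set_option maxRecDepth 100000 in
theorem os_Sx_tr_1 : (orbit (stabilizer MG sext0) (trioOf (EG.ofMask (lo24 250310694016159)) (EG.ofMask (hi24 250310694016159)))).ncard = 180 :=
  ncard_orbit_trio codes_Sx closure_Sx (by decide +kernel) (by norm_num) (by decide +kernel)

set_option maxRecDepth 100000 in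
theorem os_Sx_tr_2 : (orbit (stabilizer MG sext0) (trioOf (EG.ofMask (lo24 8896049817600)) (EG.ofMask (hi24 8896049817600)))).ncard = 720 :=
  ncard_orbit_trio codes_Sx closure_Sx (by decide +kernel) (by norm_num) (by decide +kernel)

set_option maxRecDepth 100000 in
theorem os_Sx_tr_3 : (orbit (stabilizer MG sext0) (trioOf (EG.ofMask (lo24 250310695061428)) (EG.ofMask (hi24 250310695061428)))).ncard = 2880 :=
  ncard_orbit_trio codes_Sx closure_Sx (by decide +kernel) (by norm_num) (by decide +kernel)

theorem os_Sx_tr : OrbStruct (stabilizer MG sext0) trios ![15, 180, 720, 2880] :=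
  orbStruct_of ![trioOf (EG.ofMask (lo24 127724819726383)) (EG.ofMask (hi24 127724819726383)), trioOf (EG.ofMask (lo24 250310694016159)) (EG.ofMask (hi24 250310694016159)), trioOf (EG.ofMask (lo24 8896049817600)) (EG.ofMask (hi24 8896049817600)), trioOf (EG.ofMask (lo24 250310695061428)) (EG.ofMask (hi24 250310695061428))] (Set.toFinite _) (fun g _ => inv_trios g)
    (fun i => by fin_cases i; exacts [kTr_mem (kTr_P (by decide +kernel)), kTr_mem (kTr_P (by decide +kernel)), kTr_mem (kTr_P (by decide +kernel)), kTr_mem (kTr_P (by decide +kernel))])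
    (fun i => by fin_cases i; exacts [os_Sx_tr_0, os_Sx_tr_1, os_Sx_tr_2, os_Sx_tr_3])
    (by decide) (by rw [ncard_trios]; decide +kernel)

set_option maxRecDepth 100000 in
theorem os_Tr_oct_0 : (orbit (stabilizer MG trio0) (EG.ofMask 8536111)).ncard = 3 :=
  Keyed.ncard_orbit (C := kCw) codes_Tr closure_Tr (kCw_P (by decide +kernel)) 8 (by norm_num) (by decide +kernel)

set_option maxRecDepth 100000 in
theorem os_Tr_oct_1 : (orbit (stabilizer MG trio0) (EG.ofMask 11100169)).ncard = 84 :=
  Keyed.ncard_orbit (C := kCw) codes_Tr closure_Tr (kCw_P (by decide +kernel)) 89 (by norm_num) (by decide +kernel)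

set_option maxRecDepth 100000 in
theorem os_Tr_oct_2 : (orbit (stabilizer MG trio0) (EG.ofMask 13062145)).ncard = 672 :=
  Keyed.ncard_orbit (C := kCw) codes_Tr closure_Tr (kCw_P (by decide +kernel)) 677 (by norm_num) (by decide +kernel)

theorem os_Tr_oct : OrbStruct (stabilizer MG trio0) octads ![3, 84, 672] :=
  orbStruct_of ![EG.ofMask 8536111, EG.ofMask 11100169, EG.ofMask 13062145] (Set.toFinite _) (fun g _ => inv_octads g)
    (fun i => by fin_cases i; exacts [ofMask_mem_octads (by decide +kernel) (by decide +kernel), ofMask_mem_octads (by decide +kernel) (by decide +kernel), ofMask_mem_octads (by decide +kernel) (by decide +kernel)])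
    (fun i => by fin_cases i; exacts [os_Tr_oct_0, os_Tr_oct_1, os_Tr_oct_2])
    (by decide) (by rw [ncard_octads_eq]; decide +kernel)

set_option maxRecDepth 100000 in
theorem os_Tr_sx_0 : (orbit (stabilizer MG trio0) (sextetOf (EG.ofMask 4194512))).ncard = 7 :=
  Keyed.ncard_orbit (C := kSx) codes_Tr closure_Tr (kSx_P (by decide +kernel)) 12 (by norm_num) (by decide +kernel)

set_option maxRecDepth 100000 in
theorem os_Tr_sx_1 : (orbit (stabilizer MG trio0) (sextetOf (EG.ofMask 16428))).ncard = 84 :=
  Keyed.ncard_orbit (C := kSx) codes_Tr closure_Tr (kSx_P (by decide +kernel)) 89 (by norm_num) (by decide +kernel)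

set_option maxRecDepth 100000 in
theorem os_Tr_sx_2 : (orbit (stabilizer MG trio0) (sextetOf (EG.ofMask 8389377))).ncard = 336 :=
  Keyed.ncard_orbit (C := kSx) codes_Tr closure_Tr (kSx_P (by decide +kernel)) 341 (by norm_num) (by decide +kernel)

set_option maxRecDepth 100000 in
theorem os_Tr_sx_3 : (orbit (stabilizer MG trio0) (sextetOf (EG.ofMask 1048880))).ncard = 1344 :=
  Keyed.ncard_orbit (C := kSx) codes_Tr closure_Tr (kSx_P (by decide +kernel)) 1349 (by norm_num) (by decide +kernel)

theorem os_Tr_sx : OrbStruct (stabilizer MG trio0) sextets ![7, 84, 336, 1344] :=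
  orbStruct_of ![sextetOf (EG.ofMask 4194512), sextetOf (EG.ofMask 16428), sextetOf (EG.ofMask 8389377), sextetOf (EG.ofMask 1048880)] (Set.toFinite _) (fun g _ => inv_sextets g)
    (fun i => by fin_cases i; exacts [kSx_mem (kSx_P (by decide +kernel)), kSx_mem (kSx_P (by decide +kernel)), kSx_mem (kSx_P (by decide +kernel)), kSx_mem (kSx_P (by decide +kernel))])
    (fun i => by fin_cases i; exacts [os_Tr_sx_0, os_Tr_sx_1, os_Tr_sx_2, os_Tr_sx_3])
    (by decide) (by rw [ncard_sextets]; decide +kernel)

set_option maxRecDepth 100000 in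
theorem os_Tr_tr_0 : (orbit (stabilizer MG trio0) (trioOf (EG.ofMask (lo24 115589658066991)) (EG.ofMask (hi24 115589658066991)))).ncard = 1 :=
  ncard_orbit_trio codes_Tr closure_Tr (by decide +kernel) (by norm_num) (by decide +kernel)

set_option maxRecDepth 100000 in
theorem os_Tr_tr_1 : (orbit (stabilizer MG trio0) (trioOf (EG.ofMask (lo24 18520142645025)) (EG.ofMask (hi24 18520142645025)))).ncard = 42 :=
  ncard_orbit_trio codes_Tr closure_Tr (by decide +kernel) (by norm_num) (by decide +kernel)

set_option maxRecDepth 100000 in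
theorem os_Tr_tr_2 : (orbit (stabilizer MG trio0) (trioOf (EG.ofMask (lo24 257286543321024)) (EG.ofMask (hi24 257286543321024)))).ncard = 56 :=
  ncard_orbit_trio codes_Tr closure_Tr (by decide +kernel) (by norm_num) (by decide +kernel)

set_option maxRecDepth 100000 in
theorem os_Tr_tr_3 : (orbit (stabilizer MG trio0) (trioOf (EG.ofMask (lo24 4703225647345)) (EG.ofMask (hi24 4703225647345)))).ncard = 1008 :=
  ncard_orbit_trio codes_Tr closure_Tr (by decide +kernel) (by norm_num) (by decide +kernel)

set_option maxRecDepth 100000 in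
theorem os_Tr_tr_4 : (orbit (stabilizer MG trio0) (trioOf (EG.ofMask (lo24 250310695061428)) (EG.ofMask (hi24 250310695061428)))).ncard = 2688 :=
  ncard_orbit_trio codes_Tr closure_Tr (by decide +kernel) (by norm_num) (by decide +kernel)

theorem os_Tr_tr : OrbStruct (stabilizer MG trio0) trios ![1, 42, 56, 1008, 2688] :=
  orbStruct_of ![trioOf (EG.ofMask (lo24 115589658066991)) (EG.ofMask (hi24 115589658066991)), trioOf (EG.ofMask (lo24 18520142645025)) (EG.ofMask (hi24 18520142645025)), trioOf (EG.ofMask (lo24 257286543321024)) (EG.ofMask (hi24 257286543321024)), trioOf (EG.ofMask (lo24 4703225647345)) (EG.ofMask (hi24 4703225647345)), trioOf (EG.ofMask (lo24 250310695061428)) (EG.ofMask (hi24 250310695061428))] (Set.toFinite _) (fun g _ => inv_trios g)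
    (fun i => by fin_cases i; exacts [kTr_mem (kTr_P (by decide +kernel)), kTr_mem (kTr_P (by decide +kernel)), kTr_mem (kTr_P (by decide +kernel)), kTr_mem (kTr_P (by decide +kernel)), kTr_mem (kTr_P (by decide +kernel))])
    (fun i => by fin_cases i; exacts [os_Tr_tr_0, os_Tr_tr_1, os_Tr_tr_2, os_Tr_tr_3, os_Tr_tr_4])
    (by decide) (by rw [ncard_trios]; decide +kernel)

set_option maxRecDepth 100000 in
theorem os_DP_sx_0 : (orbit (stabilizer MG dp0) (sextetOf (EG.ofMask 1048880))).ncard = 396 :=
  Keyed.ncard_orbit (C := kSx) codes_DP closure_DP (kSx_P (by decide +kernel)) 401 (by norm_num) (by decide +kernel)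

set_option maxRecDepth 100000 in
theorem os_DP_sx_1 : (orbit (stabilizer MG dp0) (sextetOf (EG.ofMask 4726786))).ncard = 495 :=
  Keyed.ncard_orbit (C := kSx) codes_DP closure_DP (kSx_P (by decide +kernel)) 500 (by norm_num) (by decide +kernel)

set_option maxRecDepth 100000 in
theorem os_DP_sx_2 : (orbit (stabilizer MG dp0) (sextetOf (EG.ofMask 1105))).ncard = 880 :=
  Keyed.ncard_orbit (C := kSx) codes_DP closure_DP (kSx_P (by decide +kernel)) 885 (by norm_num) (by decide +kernel)

theorem os_DP_sx : OrbStruct (stabilizer MG dp0) sextets ![396, 495, 880] :=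
  orbStruct_of ![sextetOf (EG.ofMask 1048880), sextetOf (EG.ofMask 4726786), sextetOf (EG.ofMask 1105)] (Set.toFinite _) (fun g _ => inv_sextets g)
    (fun i => by fin_cases i; exacts [kSx_mem (kSx_P (by decide +kernel)), kSx_mem (kSx_P (by decide +kernel)), kSx_mem (kSx_P (by decide +kernel))])
    (fun i => by fin_cases i; exacts [os_DP_sx_0, os_DP_sx_1, os_DP_sx_2])
    (by decide) (by rw [ncard_sextets]; decide +kernel)

set_option maxRecDepth 100000 in
theorem os_DP_dp_0 : (orbit (stabilizer MG dp0) (({EG.ofMask 340831, (EG.ofMask 340831)ᶜ} : Finset (Finset GolayPt)))).ncard = 1 :=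
  Keyed.ncard_orbit (C := kDP) codes_DP closure_DP (kDP_P (by decide +kernel)) 6 (by norm_num) (by decide +kernel)

set_option maxRecDepth 100000 in
theorem os_DP_dp_1 : (orbit (stabilizer MG dp0) (({EG.ofMask 16748578, (EG.ofMask 16748578)ᶜ} : Finset (Finset GolayPt)))).ncard = 495 :=
  Keyed.ncard_orbit (C := kDP) codes_DP closure_DP (kDP_P (by decide +kernel)) 500 (by norm_num) (by decide +kernel)

set_option maxRecDepth 100000 in
theorem os_DP_dp_2 : (orbit (stabilizer MG dp0) (({EG.ofMask 823281, (EG.ofMask 823281)ᶜ} : Finset (Finset GolayPt)))).ncard = 792 :=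
  Keyed.ncard_orbit (C := kDP) codes_DP closure_DP (kDP_P (by decide +kernel)) 797 (by norm_num) (by decide +kernel)

theorem os_DP_dp : OrbStruct (stabilizer MG dp0) dpairs ![1, 495, 792] :=
  orbStruct_of ![({EG.ofMask 340831, (EG.ofMask 340831)ᶜ} : Finset (Finset GolayPt)), ({EG.ofMask 16748578, (EG.ofMask 16748578)ᶜ} : Finset (Finset GolayPt)), ({EG.ofMask 823281, (EG.ofMask 823281)ᶜ} : Finset (Finset GolayPt))] (Set.toFinite _) (fun g _ => inv_dpairs g)
    (fun i => by fin_cases i; exacts [⟨_, ofMask_mem_dodecads (by decide +kernel) (by decide +kernel), rfl⟩, ⟨_, ofMask_mem_dodecads (by decide +kernel) (by decide +kernel), rfl⟩, ⟨_, ofMask_mem_dodecads (by decide +kernel) (by decide +kernel), rfl⟩])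
    (fun i => by fin_cases i; exacts [os_DP_dp_0, os_DP_dp_1, os_DP_dp_2])
    (by decide) (by rw [ncard_dpairs]; decide +kernel)

set_option maxRecDepth 100000 in
theorem os_Duad_duad_0 : (orbit (stabilizer MG duad0) (EG.ofMask 8388609)).ncard = 1 :=
  Keyed.ncard_orbit (C := kSm) codes_Duad closure_Duad (kSm_P (by decide +kernel)) 6 (by norm_num) (by decide +kernel)

set_option maxRecDepth 100000 in
theorem os_Duad_duad_1 : (orbit (stabilizer MG duad0) (EG.ofMask 5)).ncard = 44 :=
  Keyed.ncard_orbit (C := kSm) codes_Duad closure_Duad (kSm_P (by decide +kernel)) 49 (by norm_num) (by decide +kernel)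

set_option maxRecDepth 100000 in
theorem os_Duad_duad_2 : (orbit (stabilizer MG duad0) (EG.ofMask 12288)).ncard = 231 :=
  Keyed.ncard_orbit (C := kSm) codes_Duad closure_Duad (kSm_P (by decide +kernel)) 236 (by norm_num) (by decide +kernel)

theorem os_Duad_duad : OrbStruct (stabilizer MG duad0) {t : Finset GolayPt | t.card = 2} ![1, 44, 231] :=
  orbStruct_of ![EG.ofMask 8388609, EG.ofMask 5, EG.ofMask 12288] (Set.toFinite _) (fun g _ => (inv_card 2) g)
    (fun i => by fin_cases i; exacts [(card_ofMask24 _).trans (by decide +kernel), (card_ofMask24 _).trans (by decide +kernel), (card_ofMask24 _).trans (by decide +kernel)])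
    (fun i => by fin_cases i; exacts [os_Duad_duad_0, os_Duad_duad_1, os_Duad_duad_2])
    (by decide) (by rw [(ncard_card_eq 2)]; decide +kernel)

set_option maxRecDepth 100000 in
theorem os_Triad_triad_0 : (orbit (stabilizer MG triad0) (EG.ofMask 8388611)).ncard = 1 :=
  Keyed.ncard_orbit (C := kSm) codes_Triad closure_Triad (kSm_P (by decide +kernel)) 6 (by norm_num) (by decide +kernel)

set_option maxRecDepth 100000 in
theorem os_Triad_triad_1 : (orbit (stabilizer MG triad0) (EG.ofMask 12582913)).ncard = 63 :=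
  Keyed.ncard_orbit (C := kSm) codes_Triad closure_Triad (kSm_P (by decide +kernel)) 68 (by norm_num) (by decide +kernel)

set_option maxRecDepth 100000 in
theorem os_Triad_triad_2 : (orbit (stabilizer MG triad0) (EG.ofMask 28672)).ncard = 210 :=
  Keyed.ncard_orbit (C := kSm) codes_Triad closure_Triad (kSm_P (by decide +kernel)) 215 (by norm_num) (by decide +kernel)

set_option maxRecDepth 100000 in
theorem os_Triad_triad_3 : (orbit (stabilizer MG triad0) (EG.ofMask 4718594)).ncard = 630 :=
  Keyed.ncard_orbit (C := kSm) codes_Triad closure_Triad (kSm_P (by decide +kernel)) 635 (by norm_num) (by decide +kernel)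

set_option maxRecDepth 100000 in
theorem os_Triad_triad_4 : (orbit (stabilizer MG triad0) (EG.ofMask 45056)).ncard = 1120 :=
  Keyed.ncard_orbit (C := kSm) codes_Triad closure_Triad (kSm_P (by decide +kernel)) 1125 (by norm_num) (by decide +kernel)

theorem os_Triad_triad : OrbStruct (stabilizer MG triad0) {t : Finset GolayPt | t.card = 3} ![1, 63, 210, 630, 1120] :=
  orbStruct_of ![EG.ofMask 8388611, EG.ofMask 12582913, EG.ofMask 28672, EG.ofMask 4718594, EG.ofMask 45056] (Set.toFinite _) (fun g _ => (inv_card 3) g)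
    (fun i => by fin_cases i; exacts [(card_ofMask24 _).trans (by decide +kernel), (card_ofMask24 _).trans (by decide +kernel), (card_ofMask24 _).trans (by decide +kernel), (card_ofMask24 _).trans (by decide +kernel), (card_ofMask24 _).trans (by decide +kernel)])
    (fun i => by fin_cases i; exacts [os_Triad_triad_0, os_Triad_triad_1, os_Triad_triad_2, os_Triad_triad_3, os_Triad_triad_4])
    (by decide) (by rw [(ncard_card_eq 3)]; decide +kernel)

end Cfsg.Agent.Golay
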